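import Groth.Agent.Lib.ExcDVR6.Dvr
import Groth.Agent.Lib.DVRVal.Criterion

/-!
# Valuative criteria over excellent bases with DVRs essentially of finite type
-/

set_option linter.style.haveILetI false
set_option autoImplicit false

universe u

open CategoryTheory CategoryTheory.Limits AlgebraicGeometry IsLocalRing

namespace Groth.Agent.ExcDVR

variable {S X Y : Scheme.{u}}

/-- `Spec A ⟶ Y ⟶ S` is essentially of finite type. -/
def EssOver (g : Y ⟶ S) {A : Type u} [CommRing A] (y : Spec (CommRingCat.of A) ⟶ Y) : Prop :=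
  ∃ (U : S.affineOpens) (φ : Γ(S, U.1) ⟶ CommRingCat.of A),
    Spec.map φ ≫ U.2.fromSpec = y ≫ g ∧ φ.hom.EssFiniteType

/-- Existence of lifts along essentially finite type DVRs. -/
def EssExistence (f : X ⟶ Y) (g : Y ⟶ S) : Prop :=
  ∀ (A : Type u) [CommRing A] [IsDomain A] [IsDiscreteValuationRing A] (K : Type u) [Field K]
    [Algebra A K] [IsFractionRing A K] (x : Spec (CommRingCat.of K) ⟶ X) (y : Spec (CommRingCat.of A) ⟶ Y),
      x ≫ f = Spec.map (CommRingCat.ofHom (algebraMap A K)) ≫ y → EssOver g y →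
      ∃ l : Spec (CommRingCat.of A) ⟶ X, l ≫ f = y ∧ Spec.map (CommRingCat.ofHom (algebraMap A K)) ≫ l = x

theorem EssExistence.of_isPullback {X' Y' : Scheme.{u}} {f : X ⟶ Y} {g : Y ⟶ S} {g' : X' ⟶ X} {f' : X' ⟶ Y'}
    {h : Y' ⟶ Y} (sq : IsPullback g' f' f h) (H : EssExistence f g) : EssExistence f' (h ≫ g) := by
  intro A _ _ _ K _ _ _ x y hxy he
  obtain ⟨l, hl1, hl2⟩ := H A K (x ≫ g') (y ≫ h) (by rw [Category.assoc, sq.w, reassoc_of% hxy])
    (by simpa [EssOver] using he)
  refine ⟨sq.lift l y hl1, sq.lift_snd _ _ _, sq.hom_ext ?_ ?_⟩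
  · rw [Category.assoc, sq.lift_fst, hl2]
  · rw [Category.assoc, sq.lift_snd, hxy]

theorem EssExistence.specializingMap (hS : ∀ U : S.affineOpens, EGA4.IsExcellent Γ(S, U.1))
    {f : X ⟶ Y} {g : Y ⟶ S} [LocallyOfFiniteType f] [LocallyOfFiniteType g] (H : EssExistence f g) :
    SpecializingMap f := by
  intro x y' (hsp : f x ⤳ y')
  by_cases hne : y' = f x
  · exact ⟨x, specializes_rfl, hne.symm⟩
  obtain ⟨_, ⟨U, hU, rfl⟩, hyU, -⟩ :=
    S.isBasis_affineOpens.exists_subset_of_mem_open (Set.mem_univ (g y')) isOpen_univ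
  let χ : Γ(S, U) ⟶ Y.presheaf.stalk y' := S.presheaf.germ U (g y') hyU ≫ g.stalkMap y'
  have hχ : χ.hom.EssFiniteType := by
    refine RingHom.EssFiniteType.comp ?_ (LocallyOfFiniteType.stalkMap g y')
    letI : Algebra Γ(S, U) (S.presheaf.stalk (g y')) := (S.presheaf.germ U (g y') hyU).hom.toAlgebra
    haveI : IsLocalization.AtPrime (S.presheaf.stalk (g y')) (hU.primeIdealOf ⟨g y', hyU⟩).asIdeal :=
      hU.isLocalization_stalk ⟨g y', hyU⟩
    exact RingHom.essFiniteType_algebraMap.mpr
      (Algebra.EssFiniteType.of_isLocalization _ (hU.primeIdealOf ⟨g y', hyU⟩).asIdeal.primeCompl)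
  have hexc : EGA4.IsExcellent (Y.presheaf.stalk y') := by
    letI := χ.hom.toAlgebra
    haveI : Algebra.EssFiniteType Γ(S, U) (Y.presheaf.stalk y') := hχ
    exact isExcellent_of_essFiniteType Γ(S, U) _ (hS ⟨U, hU⟩)
  let φ : Y.presheaf.stalk y' ⟶ X.residueField x :=
    Y.presheaf.stalkSpecializes hsp ≫ f.stalkMap x ≫ X.residue x
  have hw : Spec.map φ ≫ Y.fromSpecStalk y' = X.fromSpecResidueField x ≫ f := by
    rw [Scheme.fromSpecResidueField, Category.assoc, ← Scheme.SpecMap_stalkMap_fromSpecStalk,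
      ← Scheme.SpecMap_stalkSpecializes_fromSpecStalk hsp]
    simp_rw [← Spec.map_comp_assoc]
    rfl
  have hess : φ.hom.EssFiniteType := by
    refine (DVRVal.essFiniteType_stalkSpecializes hsp).comp ?_
    refine RingHom.EssFiniteType.comp (LocallyOfFiniteType.stalkMap f x) ?_
    exact (RingHom.FiniteType.of_surjective _ (X.residue_surjective x)).essFiniteType
  have hker : RingHom.ker φ.hom ≠ maximalIdeal (Y.presheaf.stalk y') := by
    intro h
    apply hne
    have h1 : (Spec.map φ) (closedPoint (X.residueField x)) = closedPoint (Y.presheaf.stalk y') := by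
      apply PrimeSpectrum.ext
      change (maximalIdeal (X.residueField x)).comap φ.hom = _
      rw [isField_iff_maximalIdeal_eq.mp (Field.toIsField _)]
      exact h
    have h2 := congrArg (fun g : Spec (X.residueField x) ⟶ Y => g (closedPoint _)) hw
    change Y.fromSpecStalk y' ((Spec.map φ) (closedPoint _)) = f (X.fromSpecResidueField x _) at h2
    rw [h1] at h2
    exact Y.fromSpecStalk_closedPoint.symm.trans (h2.trans (congrArg f (Scheme.fromSpecResidueField_apply _ _)))
  obtain ⟨A, hA, hmem, hψess, hlt⟩ := exists_dvr _ hexc _ φ.hom hess hker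
  let ψ : Y.presheaf.stalk y' ⟶ CommRingCat.of A := CommRingCat.ofHom (φ.hom.codRestrict A.toSubring hmem)
  haveI : IsLocalHom ψ.hom := ⟨fun a ha => by
    by_contra hna
    exact (hlt a hna).ne ((A.valuation_eq_one_iff (⟨φ.hom a, hmem a⟩ : A)).mp ha)⟩
  have hcl : (Spec.map ψ ≫ Y.fromSpecStalk y') (closedPoint A) = y' := by
    change Y.fromSpecStalk y' ((Spec.map ψ) (closedPoint A)) = y'
    have : Spec.map ψ (closedPoint A) = closedPoint (Y.presheaf.stalk y') := comap_closedPoint ψ.hom
    exact (congrArg (Y.fromSpecStalk y') this).trans Y.fromSpecStalk_closedPoint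
  haveI : IsFractionRing A (X.residueField x) := inferInstance
  obtain ⟨l, hl1, hl2⟩ := H A (X.residueField x) (X.fromSpecResidueField x) (Spec.map ψ ≫ Y.fromSpecStalk y')
    (by rw [← Category.assoc, ← Spec.map_comp, ← hw]; rfl)
    ⟨⟨U, hU⟩, χ ≫ ψ, by
      rw [Spec.map_comp, Spec.map_comp, Category.assoc, Category.assoc, Category.assoc,
        ← Scheme.SpecMap_stalkMap_fromSpecStalk, ← hU.fromSpecStalk_eq_fromSpecStalk hyU]
      rfl, hχ.comp hψess⟩
  refine ⟨l (closedPoint A), ?_, ?_⟩
  · have h1 : X.fromSpecResidueField x (closedPoint (X.residueField x)) = x :=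
      Scheme.fromSpecResidueField_apply _ _
    rw [← hl2] at h1
    refine specializes_of_eq h1.symm |>.trans ?_
    exact (specializes_closedPoint _).map l.continuous
  · rw [← Scheme.Hom.comp_apply, hl1]; exact hcl

/-- Over an excellent base, lifts along essentially finite type DVRs give universal closedness. -/
theorem EssExistence.universallyClosed (hS : ∀ U : S.affineOpens, EGA4.IsExcellent Γ(S, U.1))
    {f : X ⟶ Y} {g : Y ⟶ S} [QuasiCompact f] [LocallyOfFiniteType f] [LocallyOfFiniteType g]
    (H : EssExistence f g) : UniversallyClosed f := by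
  refine DVRVal.universallyClosed_of_finiteType f fun {Y'} h hh => ?_
  haveI := hh
  exact (isClosedMap_iff_specializingMap (pullback.snd f h)).mpr
    (EssExistence.specializingMap hS (EssExistence.of_isPullback (IsPullback.of_hasPullback f h) H))

theorem isLocallyNoetherian_of_excellent (hS : ∀ U : S.affineOpens, EGA4.IsExcellent Γ(S, U.1)) :
    IsLocallyNoetherian S := ⟨fun U => (hS U).1⟩

theorem quasiCompact_diagonal (hS : ∀ U : S.affineOpens, EGA4.IsExcellent Γ(S, U.1)) (f : X ⟶ Y) (g : Y ⟶ S)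
    [LocallyOfFiniteType f] [LocallyOfFiniteType g] : QuasiCompact (pullback.diagonal f) := by
  haveI := isLocallyNoetherian_of_excellent hS
  haveI : IsLocallyNoetherian X := LocallyOfFiniteType.isLocallyNoetherian (f ≫ g)
  haveI : QuasiSeparated f := inferInstance
  exact QuasiSeparated.quasiCompact_diagonal

theorem existence_of_universallyClosed {f : X ⟶ Y} [UniversallyClosed f] (sq : ValuativeCommSq f) :
    sq.commSq.HasLift := by
  have : (ValuativeCriterion.Existence ⊓ @QuasiCompact : MorphismProperty Scheme.{u}) f :=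
    UniversallyClosed.eq_valuativeCriterion ▸ (inferInstance : UniversallyClosed f)
  exact this.1 sq

end Groth.Agent.ExcDVR
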