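import Groth.Agent.Lib.KrullAkizuki.DVR
import Groth.Agent.Lib.GRing6.Excellent
import Groth.Agent.Lib.SHens6.NormFinite
import Groth.Agent.Lib.NagataH7.Bot
import Mathlib

/-!
# Over excellent local domains, dominating DVRs may be taken essentially of finite type
-/

set_option linter.style.haveILetI false
set_option autoImplicit false

universe u

open IsLocalRing

namespace Groth.Agent.ExcDVR

/-- Excellence passes to algebras essentially of finite type. -/
theorem isExcellent_of_essFiniteType (A B : Type u) [CommRing A] [CommRing B] [Algebra A B]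
    [Algebra.EssFiniteType A B] (hA : EGA4.IsExcellent A) : EGA4.IsExcellent B :=
  GRing6.isExcellent_of_isLocalization (Algebra.EssFiniteType.subalgebra A B) B
    (Algebra.EssFiniteType.submonoid A B)
    (GRing6.isExcellent_of_finiteType A (Algebra.EssFiniteType.subalgebra A B) hA)

theorem finite_integralClosure (R : Type u) [CommRing R] [IsDomain R] (hR : EGA4.IsExcellent R)
    (K L : Type u) [Field K] [Algebra R K] [IsFractionRing R K] [Field L] [Algebra K L]
    [FiniteDimensional K L] [Algebra R L] [IsScalarTower R K L] : Module.Finite R (integralClosure R L) := by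
  haveI : (⊥ : Ideal R).IsPrime := Ideal.isPrime_bot
  exact NagataH7.finite_integralClosure R K ((SHens6.isNagata_of_isExcellent R hR).2 ⊥) L

/-- The DVR of `L` over a height one prime of an excellent domain can be taken essentially of finite type. -/
theorem exists_dvr_of_height_eq_one (R : Type u) [CommRing R] [IsDomain R] (hR : EGA4.IsExcellent R)
    (K L : Type u) [Field K] [Algebra R K] [IsFractionRing R K] [Field L]
    [Algebra K L] [FiniteDimensional K L] [Algebra R L] [IsScalarTower R K L]
    (P : Ideal R) [P.IsPrime] (hP : P.height = 1) :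
    ∃ V : ValuationSubring L, IsDiscreteValuationRing V ∧ ∃ hmem : ∀ r : R, algebraMap R L r ∈ V,
      ((algebraMap R L).codRestrict V.toSubring hmem).EssFiniteType ∧
      ∀ r ∈ P, V.valuation (algebraMap R L r) < 1 := by
  haveI := hR.1
  let R1 := Localization.AtPrime P
  have hR1 : EGA4.IsExcellent R1 := GRing6.isExcellent_of_isLocalization R R1 P.primeCompl hR
  haveI : Algebra.EssFiniteType R R1 := Algebra.EssFiniteType.of_isLocalization R1 P.primeCompl
  haveI : Ring.KrullDimLE 1 R1 := Ring.krullDimLE_iff.2
    (by rw [IsLocalization.AtPrime.ringKrullDim_eq_height P R1, hP]; simp)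
  letI : Algebra R1 K := (IsLocalization.lift (M := P.primeCompl) (g := algebraMap R K) fun y => by
    refine IsUnit.mk0 _ ((map_ne_zero_iff _ (IsFractionRing.injective R K)).2 ?_)
    exact fun h => y.2 (by rw [h]; exact zero_mem _)).toAlgebra
  haveI : IsScalarTower R R1 K := IsScalarTower.of_algebraMap_eq fun r => (IsLocalization.lift_eq _ r).symm
  haveI : IsFractionRing R1 K := IsFractionRing.isFractionRing_of_isDomain_of_isLocalization P.primeCompl R1 K
  letI : Algebra R1 L := ((algebraMap K L).comp (algebraMap R1 K)).toAlgebra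
  haveI : IsScalarTower R1 K L := IsScalarTower.of_algebraMap_eq fun _ => rfl
  haveI : IsScalarTower R R1 L := IsScalarTower.of_algebraMap_eq fun r => by
    rw [IsScalarTower.algebraMap_apply R K L, IsScalarTower.algebraMap_apply R R1 K]; rfl
  haveI := KrullAkizuki.isDedekindDomain_integralClosure R1 K L
  haveI := finite_integralClosure R1 hR1 K L
  let C := integralClosure R1 L
  haveI : IsFractionRing C L := integralClosure.isFractionRing_of_finite_extension K L
  have hinj : Function.Injective (algebraMap R1 C) := fun a b h => by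
    have : algebraMap R1 L a = algebraMap R1 L b := congrArg Subtype.val h
    exact IsFractionRing.injective R1 K ((algebraMap K L).injective this)
  obtain ⟨Q, hQ, hQc⟩ := Ideal.exists_ideal_over_maximal_of_isIntegral (S := C) (maximalIdeal R1)
    (by rw [(RingHom.injective_iff_ker_eq_bot _).1 hinj]; exact bot_le)
  have hP0 : P ≠ ⊥ := P.ne_bot_of_height_eq_one hP
  have hQ0 : Q ≠ ⊥ := by
    intro h
    obtain ⟨r, hr, hr0⟩ := Submodule.exists_mem_ne_zero_of_ne_bot hP0
    have : algebraMap R R1 r ∈ maximalIdeal R1 := (IsLocalization.AtPrime.to_map_mem_maximal_iff R1 P r).2 hr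
    rw [← hQc, Ideal.mem_comap, h, Ideal.mem_bot, ← map_zero (algebraMap R1 C)] at this
    exact hr0 (IsLocalization.injective R1 P.primeCompl_le_nonZeroDivisors (by rw [hinj this, map_zero]))
  let v : IsDedekindDomain.HeightOneSpectrum C := ⟨Q, hQ.isPrime, hQ0⟩
  let V := IsDedekindDomain.HeightOneSpectrum.valuationSubringAtPrime L v
  have hVeq : V = (v.valuation L).valuationSubring :=
    IsDedekindDomain.HeightOneSpectrum.valuationSubringAtPrime_eq_valuationSubring v
  haveI : (v.valuation L).IsNontrivial := by
    obtain ⟨π, hπ⟩ := v.valuation_exists_uniformizer L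
    exact ⟨π, by rw [hπ]; simp, by rw [hπ, ← WithZero.exp_zero]; exact fun h => by simpa using h⟩
  have hdvr : IsDiscreteValuationRing V := by rw [hVeq]; infer_instance
  let ψ : R →+* V := (algebraMap C V).comp ((algebraMap R1 C).comp (algebraMap R R1))
  have hψ : ∀ r, (ψ r : L) = algebraMap R L r := fun r => by
    rw [IsScalarTower.algebraMap_apply R R1 L]; rfl
  have hmem : ∀ r : R, algebraMap R L r ∈ V := fun r => hψ r ▸ (ψ r).2
  refine ⟨V, hdvr, hmem, ?_, fun r hr => ?_⟩
  · have h : ψ.EssFiniteType := RingHom.EssFiniteType.comp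
      (RingHom.EssFiniteType.comp (RingHom.essFiniteType_algebraMap.2 inferInstance)
        (RingHom.essFiniteType_algebraMap.2 inferInstance))
      (RingHom.essFiniteType_algebraMap.2 (by
        haveI : IsLocalization v.asIdeal.primeCompl V := Localization.subalgebra.isLocalization_ofField L v.asIdeal.primeCompl v.asIdeal.primeCompl_le_nonZeroDivisors
        exact Algebra.EssFiniteType.of_isLocalization V v.asIdeal.primeCompl))
    have e : (algebraMap R L).codRestrict V.toSubring hmem = ψ := RingHom.ext fun r => Subtype.ext (hψ r).symm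
    exact e ▸ h
  · rw [hVeq, ← (Valuation.isEquiv_valuation_valuationSubring (v.valuation L)).lt_one_iff_lt_one]
    have hmem : algebraMap R1 C (algebraMap R R1 r) ∈ Q := by
      rw [← Ideal.mem_comap, hQc]
      exact (IsLocalization.AtPrime.to_map_mem_maximal_iff R1 P r).2 hr
    have h := (v.valuation_lt_one_iff_mem (K := L) (algebraMap R1 C (algebraMap R R1 r))).2 hmem
    simpa [IsScalarTower.algebraMap_apply R R1 L] using h

/-- A Noetherian local domain which is not a field is dominated by a DVR of any finite extension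
of its fraction field. -/
theorem exists_dvr_dominating (A : Type u) [CommRing A] [IsDomain A] (hexc : EGA4.IsExcellent A)
    [IsLocalRing A] (hA : ¬ IsField A) (K L : Type u) [Field K] [Algebra A K] [IsFractionRing A K]
    [Field L] [Algebra K L] [FiniteDimensional K L] [Algebra A L] [IsScalarTower A K L] :
    ∃ V : ValuationSubring L, IsDiscreteValuationRing V ∧ ∃ hmem : ∀ a : A, algebraMap A L a ∈ V,
      ((algebraMap A L).codRestrict V.toSubring hmem).EssFiniteType ∧
      ∀ a ∈ maximalIdeal A, V.valuation (algebraMap A L a) < 1 := by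
  haveI := hexc.1
  classical
  obtain ⟨s, hs⟩ := IsNoetherian.noetherian (maximalIdeal A)
  -- a valuation ring of K dominating A
  let A' : Subring K := (algebraMap A K).range
  let eA : A ≃+* A' := RingEquiv.ofBijective (algebraMap A K).rangeRestrict
    ⟨fun a b h => IsFractionRing.injective A K (congrArg Subtype.val h), (algebraMap A K).rangeRestrict_surjective⟩
  obtain ⟨W, hAW, hW⟩ := Ideal.image_subset_nonunits_valuationSubring ((maximalIdeal A).map eA.toRingHom)
    (fun h => (maximalIdeal.isMaximal A).ne_top (by
      rw [← Ideal.comap_map_of_bijective eA.toRingHom eA.bijective (I := maximalIdeal A), h, Ideal.comap_top]))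
  have hWm : ∀ a ∈ maximalIdeal A, W.valuation (algebraMap A K a) < 1 := fun a ha =>
    W.mem_nonunits_iff.1 (hW ⟨eA a, Ideal.mem_map_of_mem _ ha, rfl⟩)
  have hsne : s.Nonempty := by
    rw [Finset.nonempty_iff_ne_empty]
    intro h
    rw [h, Finset.coe_empty, Submodule.span_empty] at hs
    exact hA (isField_iff_maximalIdeal_eq.2 hs.symm)
  obtain ⟨x, hx, hmax⟩ := s.exists_max_image (fun y => W.valuation (algebraMap A K y)) hsne
  have hx0 : x ≠ 0 := by
    rintro rfl
    apply hA
    rw [isField_iff_maximalIdeal_eq, ← hs, eq_bot_iff, Submodule.span_le]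
    intro y hy
    have h := hmax y hy
    rw [map_zero, map_zero, le_zero_iff, map_eq_zero, map_eq_zero_iff _ (IsFractionRing.injective A K)] at h
    exact h
  have hxK : algebraMap A K x ≠ 0 := (map_ne_zero_iff _ (IsFractionRing.injective A K)).2 hx0
  let B : Subalgebra A K := Algebra.adjoin A ((fun y => algebraMap A K y / algebraMap A K x) '' ↑s)
  haveI : Algebra.FiniteType A B := ⟨(Subalgebra.fg_top B).2 (Subalgebra.fg_def.2 ⟨_, s.finite_toSet.image _, rfl⟩)⟩
  haveI : IsNoetherianRing B := Algebra.FiniteType.isNoetherianRing A B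
  have hBW : ∀ b : K, b ∈ B → b ∈ W := by
    intro b hb
    induction hb using Algebra.adjoin_induction with
    | mem z hz =>
      obtain ⟨y, hy, rfl⟩ := hz
      rw [← ValuationSubring.valuation_le_one_iff, map_div₀]
      exact div_le_one_of_le₀ (hmax y hy) zero_le
    | algebraMap a => exact hAW ⟨a, rfl⟩
    | add a b _ _ ha hb => exact W.add_mem _ _ ha hb
    | mul a b _ _ ha hb => exact W.mul_mem _ _ ha hb
  let xB : B := algebraMap A B x
  have hxu : ¬ IsUnit xB := by
    intro h
    obtain ⟨y, hy⟩ := h.exists_right_inv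
    have h1 : algebraMap A K x * (y : K) = 1 := congrArg Subtype.val hy
    have h2 := congrArg W.valuation h1
    rw [map_mul, map_one] at h2
    have h3 := mul_lt_one_of_lt_of_le (hWm x (hs ▸ Submodule.subset_span hx)) ((W.valuation_le_one_iff _).2 (hBW _ y.2))
    exact h3.ne h2
  obtain ⟨M, hM, hle⟩ := Ideal.exists_le_maximal (Ideal.span {xB}) (fun h => hxu (Ideal.span_singleton_eq_top.1 h))
  obtain ⟨P, hP, hPM⟩ := Ideal.exists_minimalPrimes_le hle
  haveI := hP.isPrime
  have hPx : xB ∈ P := hP.le (Ideal.mem_span_singleton_self _)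
  have hxB0 : xB ≠ 0 := fun h => hxK (congrArg Subtype.val h)
  have hP1 : P.height = 1 := le_antisymm (Ideal.height_le_one_of_isPrincipal_of_mem_minimalPrimes _ P hP)
    (by
      rw [Order.one_le_iff_ne_zero]
      intro h
      rw [Ideal.height_eq_zero_iff, IsDomain.minimalPrimes_eq_singleton_bot, Set.mem_singleton_iff] at h
      exact hxB0 (by simpa [h] using hPx))
  haveI : IsFractionRing B K := by
    refine IsFractionRing.of_field B K fun z => ?_
    obtain ⟨a, b, hb, rfl⟩ := IsFractionRing.div_surjective A z
    exact ⟨algebraMap A B a, algebraMap A B b, rfl⟩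
  haveI : IsScalarTower B K L := inferInstance
  obtain ⟨V, hV, hBV, hBess, hPV⟩ := exists_dvr_of_height_eq_one B
    (GRing6.isExcellent_of_finiteType A B hexc) K L P hP1
  have hmap : ∀ a : A, algebraMap B L (algebraMap A B a) = algebraMap A L a := fun a => by
    rw [IsScalarTower.algebraMap_apply A K L]; rfl
  refine ⟨V, hV, fun a => hmap a ▸ hBV _, ?_, fun a ha => hmap a ▸ hPV _ ?_⟩
  · have h : (((algebraMap B L).codRestrict V.toSubring hBV).comp (algebraMap A B)).EssFiniteType :=
      (RingHom.essFiniteType_algebraMap.2 inferInstance).comp hBess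
    exact (RingHom.ext fun a => Subtype.ext (hmap a) :
      ((algebraMap B L).codRestrict V.toSubring hBV).comp (algebraMap A B) =
        (algebraMap A L).codRestrict V.toSubring _) ▸ h
  have : a ∈ Ideal.comap (algebraMap A B) P := by
    rw [← hs] at ha
    refine Submodule.span_le.2 (fun y hy => ?_) ha
    let yB : B := ⟨algebraMap A K y / algebraMap A K x, Algebra.subset_adjoin ⟨y, hy, rfl⟩⟩
    have : algebraMap A B y = xB * yB := Subtype.ext (by
      show algebraMap A K y = algebraMap A K x * _
      rw [mul_div_cancel₀ _ hxK])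
    show algebraMap A B y ∈ P
    rw [this]; exact P.mul_mem_right _ hPx
  exact this

open MvPolynomial in
attribute [local instance] MvPolynomial.algebraMvPolynomial in
/-- A Noetherian local domain which is not a field is dominated by a DVR of any finitely generated
extension of its fraction field. -/
theorem exists_dvr_dominating_of_essFiniteType (A : Type u) [CommRing A] [IsDomain A] (hexc : EGA4.IsExcellent A)
    [IsLocalRing A] (hA : ¬ IsField A) (K L : Type u) [Field K] [Algebra A K] [IsFractionRing A K]
    [Field L] [Algebra K L] [Algebra.EssFiniteType K L] [Algebra A L] [IsScalarTower A K L] :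
    ∃ V : ValuationSubring L, IsDiscreteValuationRing V ∧ ∃ hmem : ∀ a : A, algebraMap A L a ∈ V,
      ((algebraMap A L).codRestrict V.toSubring hmem).EssFiniteType ∧
      ∀ a ∈ maximalIdeal A, V.valuation (algebraMap A L a) < 1 := by
  haveI := hexc.1
  classical
  obtain ⟨t, ht⟩ := exists_isTranscendenceBasis K L
  haveI : Finite t := finite_of_isTranscendenceBasis ht
  let φ : MvPolynomial t A →+* L := eval₂Hom (algebraMap A L) ((↑) : t → L)
  let ψ : MvPolynomial t K →ₐ[K] L := aeval ((↑) : t → L)
  have hφψ : ∀ q, φ q = ψ (map (algebraMap A K) q) := fun q => by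
    simp only [φ, ψ, aeval_def, coe_eval₂Hom, eval₂_map, ← IsScalarTower.algebraMap_eq]
  have hψ : Function.Injective ψ := ht.1
  have hφ : Function.Injective φ := fun a b h => by
    rw [hφψ, hφψ] at h
    exact map_injective _ (IsFractionRing.injective A K) (hψ h)
  let F := IntermediateField.adjoin K (Set.range ((↑) : t → L))
  have hφF : ∀ q, φ q ∈ F := fun q => by
    rw [hφψ]
    exact IntermediateField.algebra_adjoin_le_adjoin K _ (by
      rw [Algebra.adjoin_range_eq_range_aeval]; exact ⟨_, rfl⟩)
  letI : Algebra (MvPolynomial t A) F := (φ.codRestrict F hφF).toAlgebra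
  have hmap : ∀ q, ((algebraMap (MvPolynomial t A) F q : F) : L) = φ q := fun q => rfl
  haveI : FaithfulSMul (MvPolynomial t A) F := (faithfulSMul_iff_algebraMap_injective _ _).2
    fun a b h => hφ (by rw [← hmap, ← hmap, h])
  haveI : IsFractionRing (MvPolynomial t A) F := by
    refine IsFractionRing.of_field _ F fun z => ?_
    obtain ⟨r, s, hz⟩ := (IntermediateField.mem_adjoin_range_iff K _ (z : L)).1 z.2
    obtain ⟨⟨r₀, ⟨dr, hdr⟩⟩, hr⟩ := IsLocalization.surj ((nonZeroDivisors A).map (C (σ := t))) (S := MvPolynomial t K) r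
    obtain ⟨⟨s₀, ⟨ds, hds⟩⟩, hs⟩ := IsLocalization.surj ((nonZeroDivisors A).map (C (σ := t))) (S := MvPolynomial t K) s
    refine ⟨r₀ * ds, s₀ * dr, ?_⟩
    apply Subtype.ext
    have hr' : ψ r * φ dr = φ r₀ := by rw [hφψ, hφψ, ← map_mul]; exact congrArg ψ hr
    have hs' : ψ s * φ ds = φ s₀ := by rw [hφψ, hφψ, ← map_mul]; exact congrArg ψ hs
    have hd : ∀ d ∈ (nonZeroDivisors A).map (C (σ := t)), φ d ≠ 0 := by
      rintro _ ⟨a, ha, rfl⟩
      exact fun h => nonZeroDivisors.ne_zero ha (C_injective t A (hφ (by rw [h, map_zero, map_zero])))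
    rw [IntermediateField.coe_div, hmap, hmap, map_mul, map_mul, hz]
    change aeval _ r / aeval _ s = _
    rw [← hr', ← hs', mul_assoc, mul_assoc, mul_comm (φ dr) (φ ds)]
    exact (mul_div_mul_right _ _ (mul_ne_zero (hd _ hds) (hd _ hdr))).symm
  haveI : Algebra.IsAlgebraic F L := ht.isAlgebraic_field
  haveI : Algebra.EssFiniteType F L := Algebra.EssFiniteType.of_comp K F L
  haveI : FiniteDimensional F L := Algebra.finite_of_essFiniteType_of_isAlgebraic
  let P : Ideal (MvPolynomial t A) := (maximalIdeal A).map C
  haveI : P.IsPrime := by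
    rw [← Ideal.Quotient.isDomain_iff_prime]
    exact (MvPolynomial.quotientEquivQuotientMvPolynomial (maximalIdeal A)).symm.toMulEquiv.isDomain (MvPolynomial t (A ⧸ maximalIdeal A))
  let A' := Localization.AtPrime P
  letI : Algebra A' F := (IsLocalization.lift (M := P.primeCompl) (g := algebraMap (MvPolynomial t A) F) fun y =>
    IsUnit.mk0 _ ((map_ne_zero_iff _ (IsFractionRing.injective (MvPolynomial t A) F)).2
      (fun h => y.2 (by rw [h]; exact zero_mem _)))).toAlgebra
  haveI : IsScalarTower (MvPolynomial t A) A' F := IsScalarTower.of_algebraMap_eq fun r => (IsLocalization.lift_eq _ r).symm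
  haveI : IsFractionRing A' F := IsFractionRing.isFractionRing_of_isDomain_of_isLocalization P.primeCompl A' F
  letI : Algebra A' L := ((algebraMap F L).comp (algebraMap A' F)).toAlgebra
  haveI : IsScalarTower A' F L := IsScalarTower.of_algebraMap_eq fun _ => rfl
  have hmem : ∀ a ∈ maximalIdeal A, algebraMap _ A' (C a) ∈ maximalIdeal A' := fun a ha =>
    (IsLocalization.AtPrime.to_map_mem_maximal_iff A' P _).2 (Ideal.mem_map_of_mem _ ha)
  have hA' : ¬ IsField A' := by
    rw [isField_iff_maximalIdeal_eq]
    intro h
    obtain ⟨a, ha, ha0⟩ := Submodule.exists_mem_ne_zero_of_ne_bot (fun h => hA (isField_iff_maximalIdeal_eq.2 h))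
    have h0 := hmem a ha
    rw [h, Ideal.mem_bot, ← map_zero (algebraMap (MvPolynomial t A) A')] at h0
    exact ha0 (C_injective t A (by rw [IsLocalization.injective A' P.primeCompl_le_nonZeroDivisors h0, map_zero]))
  haveI : Algebra.EssFiniteType (MvPolynomial t A) A' := Algebra.EssFiniteType.of_isLocalization A' P.primeCompl
  have hexc' : EGA4.IsExcellent A' :=
    GRing6.isExcellent_of_isLocalization (MvPolynomial t A) A' P.primeCompl
      (GRing6.isExcellent_of_finiteType A (MvPolynomial t A) hexc)
  obtain ⟨V, hV, h1, hess, h2⟩ := exists_dvr_dominating A' hexc' hA' F L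
  have hc : ∀ a : A, algebraMap A' L (algebraMap (MvPolynomial t A) A' (C a)) = algebraMap A L a := fun a => by
    show ((algebraMap A' F (algebraMap _ A' (C a)) : F) : L) = _
    rw [← IsScalarTower.algebraMap_apply (MvPolynomial t A) A' F, hmap]; simp [φ]
  refine ⟨V, hV, fun a => hc a ▸ h1 _, ?_, fun a ha => hc a ▸ h2 _ (hmem a ha)⟩
  have h : (((algebraMap A' L).codRestrict V.toSubring h1).comp
      ((algebraMap (MvPolynomial t A) A').comp (algebraMap A (MvPolynomial t A)))).EssFiniteType :=
    ((RingHom.essFiniteType_algebraMap.2 inferInstance).comp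
      (RingHom.essFiniteType_algebraMap.2 inferInstance)).comp hess
  exact (RingHom.ext fun a => Subtype.ext (hc a) :
    ((algebraMap A' L).codRestrict V.toSubring h1).comp
      ((algebraMap (MvPolynomial t A) A').comp (algebraMap A (MvPolynomial t A))) =
      (algebraMap A L).codRestrict V.toSubring _) ▸ h

set_option synthInstance.maxHeartbeats 100000 in
/-- A non-closed point of an excellent local ring with an essentially finite type field extension is dominated
by a discrete valuation ring essentially of finite type over it. -/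
theorem exists_dvr (O : Type u) [CommRing O] [IsLocalRing O] (hexc : EGA4.IsExcellent O) (L : Type u) [Field L]
    (φ : O →+* L) (hφ : φ.EssFiniteType) (hne : RingHom.ker φ ≠ maximalIdeal O) :
    ∃ V : ValuationSubring L, IsDiscreteValuationRing V ∧ ∃ hmem : ∀ a, φ a ∈ V,
      (φ.codRestrict V.toSubring hmem).EssFiniteType ∧ ∀ a ∈ maximalIdeal O, V.valuation (φ a) < 1 := by
  haveI := hexc.1
  haveI : (RingHom.ker φ).IsPrime := RingHom.ker_isPrime φ
  let A := O ⧸ RingHom.ker φ
  haveI : Nontrivial A := Ideal.Quotient.nontrivial_iff.mpr Ideal.IsPrime.ne_top'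
  haveI : IsLocalRing A := .of_surjective' (Ideal.Quotient.mk _) Ideal.Quotient.mk_surjective
  haveI : IsLocalHom (Ideal.Quotient.mk (RingHom.ker φ)) :=
    IsLocalHom.of_surjective _ Ideal.Quotient.mk_surjective
  letI : Algebra O L := φ.toAlgebra
  letI : Algebra A L := (RingHom.kerLift φ).toAlgebra
  haveI : IsScalarTower O A L := IsScalarTower.of_algebraMap_eq fun _ => rfl
  haveI : FaithfulSMul A L := (faithfulSMul_iff_algebraMap_injective _ _).mpr (RingHom.kerLift_injective φ)
  haveI : Algebra.EssFiniteType O L := hφ
  haveI : Algebra.EssFiniteType A L := Algebra.EssFiniteType.of_comp O A L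
  letI : Algebra (FractionRing A) L := FractionRing.liftAlgebra A L
  haveI : Algebra.EssFiniteType (FractionRing A) L := Algebra.EssFiniteType.of_comp A (FractionRing A) L
  have hA : ¬ IsField A := fun h =>
    hne (eq_maximalIdeal (Ideal.Quotient.maximal_of_isField _ h))
  obtain ⟨V, hV, h1, hess, h2⟩ := exists_dvr_dominating_of_essFiniteType A
    (GRing6.isExcellent_of_finiteType O A hexc) hA (FractionRing A) L
  refine ⟨V, hV, fun a => h1 (Ideal.Quotient.mk _ a), ?_, fun a ha => h2 (Ideal.Quotient.mk _ a) ?_⟩
  · exact ((RingHom.FiniteType.of_surjective (Ideal.Quotient.mk (RingHom.ker φ))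
      Ideal.Quotient.mk_surjective).essFiniteType).comp hess
  · exact fun hu => ha (isUnit_of_map_unit _ _ hu)

end Groth.Agent.ExcDVR
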